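import Groth.Agent.MuGLLib.Perm
import Groth.Agent.FixedSmooth.Split
import Groth.Prelude.Def_CoactBr
import Groth.Prelude.Def_AGF
import Groth.Prelude.Def_GLin4

/-!
Points of `GL_n` and of its base change as matrices.
-/

set_option autoImplicit false
set_option backward.isDefEq.respectTransparency false
set_option backward.isDefEq.respectTransparency.types false
set_option linter.unusedSectionVars false
set_option linter.style.haveILetI false
set_option maxHeartbeats 1000000
set_option synthInstance.maxHeartbeats 400000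

universe u

open CategoryTheory CategoryTheory.Limits MonoidalCategory CartesianMonoidalCategory MonObj GrpObj AlgebraicGeometry
open WithConv

noncomputable section

attribute [-instance] CategoryTheory.Hom.commGroup

namespace Groth.Agent.MuGLLib

/-- The scheme of an algebra, over the base. -/
abbrev W (R : Type u) [CommRing R] (A : Type u) [CommRing A] [Algebra R A] : Over (Spec (CommRingCat.of R)) :=
  (Spec (CommRingCat.of A)).asOver (Spec (CommRingCat.of R))

/-- The general linear group over a ring. -/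
abbrev GLsp (R : Type u) [CommRing R] (m : ℕ) : Over (Spec (CommRingCat.of R)) :=
  CoactBr.sp R (CoordGrp.GLn m R)

variable {R : Type u} [CommRing R] {m : ℕ}

/-- The map of schemes of an algebra map. -/
def wmap {A B : Type u} [CommRing A] [Algebra R A] [CommRing B] [Algebra R B] (ψ : A →ₐ[R] B) : W R B ⟶ W R A :=
  (Spec.map (CommRingCat.ofHom ψ.toRingHom)).asOver _

theorem exists_wmap {A B : Type u} [CommRing A] [Algebra R A] [CommRing B] [Algebra R B] (x : W R B ⟶ W R A) :
    ∃ ψ : A →ₐ[R] B, wmap ψ = x := by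
  refine ⟨{ (Spec.preimage x.left).hom with commutes' := fun r => ?_ }, Over.OverMorphism.ext ?_⟩
  · have h : CommRingCat.ofHom (algebraMap R A) ≫ Spec.preimage x.left = CommRingCat.ofHom (algebraMap R B) := by
      apply Spec.map_injective
      rw [Spec.map_comp, Spec.map_preimage]
      exact Over.w x
    exact congr($h r)
  · exact Spec.map_preimage _

theorem wmap_comp {A B D : Type u} [CommRing A] [Algebra R A] [CommRing B] [Algebra R B] [CommRing D] [Algebra R D]
    (ψ : A →ₐ[R] B) (χ : B →ₐ[R] D) : wmap χ ≫ wmap ψ = wmap (χ.comp ψ) := by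
  refine Over.OverMorphism.ext ?_
  show Spec.map _ ≫ Spec.map _ = Spec.map _
  rw [← Spec.map_comp, ← CommRingCat.ofHom_comp]
  rfl

theorem wmap_id (A : Type u) [CommRing A] [Algebra R A] : wmap (AlgHom.id R A) = 𝟙 (W R A) :=
  Over.OverMorphism.ext (Spec.map_id _)

theorem wmap_injective {A B : Type u} [CommRing A] [Algebra R A] [CommRing B] [Algebra R B] {ψ χ : A →ₐ[R] B}
    (h : wmap ψ = wmap χ) : ψ = χ := by
  have := Spec.map_injective (congrArg CommaMorphism.left h)
  exact AlgHom.ext fun a => congr($this a)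

/-- An automorphism of the scheme of an algebra. -/
theorem exists_algEquiv {A : Type u} [CommRing A] [Algebra R A] (e : W R A ≅ W R A) :
    ∃ α : A ≃ₐ[R] A, wmap (α : A →ₐ[R] A) = e.hom := by
  obtain ⟨a, ha⟩ := exists_wmap e.hom
  obtain ⟨b, hb⟩ := exists_wmap e.inv
  refine ⟨AlgEquiv.ofAlgHom a b ?_ ?_, ha⟩
  · exact wmap_injective (by rw [← wmap_comp, ha, hb, Iso.hom_inv_id, wmap_id])
  · exact wmap_injective (by rw [← wmap_comp, ha, hb, Iso.inv_hom_id, wmap_id])

/-- The algebra map of a point. -/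
def ptAlg {A : Type u} [CommRing A] [Algebra R A] (x : W R A ⟶ GLsp R m) : CoordGrp.GLn m R →ₐ[R] A :=
  (Spec.mapMulEquiv (R := R) (S := CoordGrp.GLn m R) (T := A)).symm x |>.ofConv

/-- The matrix of a point. -/
def mat {A : Type u} [CommRing A] [Algebra R A] (x : W R A ⟶ GLsp R m) : Matrix (Fin m) (Fin m) A :=
  (CoordGrp.GLn.genMat m R).map (ptAlg x)

/-- The point of a matrix. -/
def matPt {A : Type u} [CommRing A] [Algebra R A] (M : Matrix (Fin m) (Fin m) A) (d : A) (h : M.det * d = 1) :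
    W R A ⟶ GLsp R m :=
  Spec.mapMulEquiv (R := R) (toConv (CoordGrp.GLn.pt m R M d h))

theorem ptAlg_spec {A : Type u} [CommRing A] [Algebra R A] (θ : CoordGrp.GLn m R →ₐ[R] A) :
    ptAlg (Spec.mapMulEquiv (R := R) (toConv θ)) = θ := by
  simp [ptAlg]

theorem mat_matPt {A : Type u} [CommRing A] [Algebra R A] (M : Matrix (Fin m) (Fin m) A) (d : A) (h : M.det * d = 1) :
    mat (matPt (R := R) M d h) = M := by
  ext i j
  rw [mat, matPt, ptAlg_spec]
  exact CoordGrp.GLn.pt_X M d h i j

theorem ptAlg_wmap {A B : Type u} [CommRing A] [Algebra R A] [CommRing B] [Algebra R B] (ψ : A →ₐ[R] B)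
    (x : W R A ⟶ GLsp R m) : ptAlg (wmap ψ ≫ x) = ψ.comp (ptAlg x) := by
  obtain ⟨θ, rfl⟩ := (Spec.mapMulEquiv (R := R) (S := CoordGrp.GLn m R) (T := A)).surjective x
  have : wmap ψ ≫ Spec.mapMulEquiv (R := R) θ =
      Spec.mapMulEquiv (R := R) (toConv (ψ.comp θ.ofConv) : WithConv (CoordGrp.GLn m R →ₐ[R] B)) := by
    refine Over.OverMorphism.ext ?_
    show Spec.map _ ≫ Spec.map _ = Spec.map _
    rw [← Spec.map_comp, ← CommRingCat.ofHom_comp]
    rfl
  rw [this, ptAlg_spec]
  congr 1
  exact (ptAlg_spec θ.ofConv).symm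

theorem mat_wmap {A B : Type u} [CommRing A] [Algebra R A] [CommRing B] [Algebra R B] (ψ : A →ₐ[R] B)
    (x : W R A ⟶ GLsp R m) : mat (wmap ψ ≫ x) = (mat x).map ψ := by
  rw [mat, ptAlg_wmap, mat, Matrix.map_map]
  rfl

theorem mat_mul {A : Type u} [CommRing A] [Algebra R A] (x y : W R A ⟶ GLsp R m) :
    mat (x * y) = mat x * mat y := by
  ext i j
  show ((Spec.mapMulEquiv (R := R)).symm (x * y)).ofConv (CoordGrp.GLn.X i j) = _
  rw [map_mul, AlgHom.convMul_apply, CoordGrp.GLn.comul_X, map_sum, Matrix.mul_apply]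
  simp [mat, ptAlg, CoordGrp.GLn.genMat]

theorem mat_one {A : Type u} [CommRing A] [Algebra R A] : mat (1 : W R A ⟶ GLsp R m) = 1 := by
  ext i j
  show ((Spec.mapMulEquiv (R := R)).symm (1 : W R A ⟶ GLsp R m)).ofConv (CoordGrp.GLn.X i j) = _
  rw [map_one]
  show algebraMap R A (CoalgebraStruct.counit (R := R) (CoordGrp.GLn.X i j : CoordGrp.GLn m R)) = _
  rw [CoordGrp.GLn.counit_X, Matrix.one_apply, apply_ite (algebraMap R A), map_one, map_zero]

theorem mat_injective {A : Type u} [CommRing A] [Algebra R A] {x y : W R A ⟶ GLsp R m} (h : mat x = mat y) :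
    x = y := by
  apply (Spec.mapMulEquiv (R := R) (S := CoordGrp.GLn m R) (T := A)).symm.injective
  apply WithConv.ofConv_injective
  have hX : ∀ i j, ptAlg x (CoordGrp.GLn.X i j) = ptAlg y (CoordGrp.GLn.X i j) := fun i j =>
    congrFun (congrFun h i) j
  refine CoordGrp.GLn.algHom_ext hX ?_
  show ptAlg x CoordGrp.GLn.Dinv = ptAlg y CoordGrp.GLn.Dinv
  have e : ∀ z : W R A ⟶ GLsp R m, ptAlg z CoordGrp.GLn.det = (mat z).det := fun z => by
    rw [CoordGrp.GLn.det_eq, AlgHom.map_det]
    rfl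
  have e2 : ∀ z : W R A ⟶ GLsp R m, (mat z).det * ptAlg z CoordGrp.GLn.Dinv = 1 := fun z => by
    rw [← e, ← map_mul, CoordGrp.GLn.det_mul_Dinv, map_one]
  have := e2 x
  rw [h] at this
  exact left_inv_eq_right_inv (by rw [mul_comm]; exact this) (e2 y)

theorem exists_gl {A : Type u} [CommRing A] [Algebra R A] (x : W R A ⟶ GLsp R m) :
    ∃ G : GL (Fin m) A, (G : Matrix (Fin m) (Fin m) A) = mat x ∧
      ((G⁻¹ : GL (Fin m) A) : Matrix (Fin m) (Fin m) A) = mat x⁻¹ :=
  ⟨⟨mat x, mat x⁻¹, by rw [← mat_mul, mul_inv_cancel, mat_one], by rw [← mat_mul, inv_mul_cancel, mat_one]⟩, rfl, rfl⟩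

theorem whom_self (R : Type u) [CommRing R] : (W R R).hom = 𝟙 (Spec (CommRingCat.of R)) := by
  have h : CommRingCat.ofHom (algebraMap R R) = 𝟙 (CommRingCat.of R) := rfl
  exact (congrArg Spec.map h).trans (Spec.map_id _)

/-- The base as the scheme of the base ring. -/
def unitIso (R : Type u) [CommRing R] : 𝟙_ (Over (Spec (CommRingCat.of R))) ≅ W R R :=
  Over.isoMk (f := Over.mk (𝟙 (Spec (CommRingCat.of R)))) (Iso.refl (Spec (CommRingCat.of R)))
    (by rw [whom_self]; exact Category.id_comp _)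

theorem toUnit_unitIso (A : Type u) [CommRing A] [Algebra R A] :
    toUnit (W R A) ≫ (unitIso R).hom = wmap (Algebra.ofId R A) := by
  refine Over.OverMorphism.ext ?_
  show (toUnit (W R A)).left ≫ 𝟙 _ = Spec.map _
  rw [Category.comp_id]
  rfl

/-- A constant point. -/
theorem mat_toUnit {A : Type u} [CommRing A] [Algebra R A] (g : 𝟙_ (Over (Spec (CommRingCat.of R))) ⟶ GLsp R m) :
    mat (toUnit (W R A) ≫ g) = (mat ((unitIso R).inv ≫ g)).map (algebraMap R A) := by
  rw [show toUnit (W R A) ≫ g = wmap (Algebra.ofId R A) ≫ (unitIso R).inv ≫ g by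
    rw [← toUnit_unitIso, Category.assoc, Iso.hom_inv_id_assoc], mat_wmap]
  rfl

section BaseChange

variable {k : Type u} [Field k] {K : Type u} [Field K] [Algebra k K]

/-- The map of bases. -/
abbrev bmap (k K : Type u) [Field k] [Field K] [Algebra k K] : Spec (CommRingCat.of K) ⟶ Spec (CommRingCat.of k) :=
  Spec.map (CommRingCat.ofHom (algebraMap k K))

variable {A : Type u} [CommRing A] [Algebra k A] [Algebra K A] [IsScalarTower k K A]

/-- The scheme of an algebra over the extension, as a scheme over the base. -/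
def restrIso (k K A : Type u) [Field k] [Field K] [Algebra k K] [CommRing A] [Algebra k A] [Algebra K A]
    [IsScalarTower k K A] : W k A ≅ (Over.map (bmap k K)).obj (W K A) :=
  Over.isoMk (Iso.refl _) (by
    show 𝟙 _ ≫ Spec.map _ ≫ Spec.map _ = Spec.map _
    rw [Category.id_comp, ← Spec.map_comp, ← CommRingCat.ofHom_comp, ← IsScalarTower.algebraMap_eq])

/-- Points of the base change are points of the group. -/
def resPt : (W K A ⟶ Red.bc (bmap k K) (GLsp k m)) ≃* (W k A ⟶ GLsp k m) :=
  (FixedSmooth.adjEquiv (bmap k K) (GLsp k m) (W K A)).symm.trans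
    (FixedSmooth.precompEquiv (G := GLsp k m) (restrIso k K A))

theorem resPt_left (x : W K A ⟶ Red.bc (bmap k K) (GLsp k m)) :
    (resPt x).left = x.left ≫ pullback.fst _ _ := by
  show 𝟙 _ ≫ (((Over.mapPullbackAdj (bmap k K)).homEquiv _ _).symm x).left = _
  rw [Category.id_comp, Adjunction.homEquiv_counit]
  rfl

theorem resPt_wmap {B : Type u} [CommRing B] [Algebra k B] [Algebra K B] [IsScalarTower k K B] (ψ : A →ₐ[K] B)
    (x : W K A ⟶ Red.bc (bmap k K) (GLsp k m)) : resPt (wmap ψ ≫ x) = wmap (ψ.restrictScalars k) ≫ resPt x := by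
  refine Over.OverMorphism.ext ?_
  rw [Over.comp_left, resPt_left, resPt_left, Over.comp_left, Category.assoc]
  rfl

theorem mat_resPt_toUnit (g : 𝟙_ (Over (Spec (CommRingCat.of K))) ⟶ Red.bc (bmap k K) (GLsp k m)) :
    mat (resPt (k := k) (toUnit (W K A) ≫ g)) =
      (mat (resPt (k := k) ((unitIso K).inv ≫ g))).map (algebraMap K A) := by
  rw [show toUnit (W K A) ≫ g = wmap (Algebra.ofId K A) ≫ (unitIso K).inv ≫ g by
    rw [← toUnit_unitIso, Category.assoc, Iso.hom_inv_id_assoc], resPt_wmap, mat_wmap]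
  rfl

end BaseChange

end Groth.Agent.MuGLLib
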