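import Mathlib

/-!
Complete systems of orthogonal idempotent matrices indexed by a finite abelian group.
-/

set_option autoImplicit false

set_option linter.unusedSectionVars false

universe u

noncomputable section

namespace Groth.Agent.MuGLLib

open Matrix

variable {R : Type u} [CommRing R] {C : Type} [CommGroup C] [Fintype C] [DecidableEq C] {m : ℕ}

/-- A complete system of orthogonal idempotents. -/
structure IsSys (P : C → Matrix (Fin m) (Fin m) R) : Prop where
  mul : ∀ a b, P a * P b = if a = b then P a else 0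
  sum : ∑ a, P a = 1

variable (R) in
/-- Constants in the group algebra. -/
abbrev cst : R →+* MonoidAlgebra R C := algebraMap R (MonoidAlgebra R C)

/-- The matrix over the group algebra with given coefficients. -/
def toMat (P : C → Matrix (Fin m) (Fin m) R) : Matrix (Fin m) (Fin m) (MonoidAlgebra R C) :=
  ∑ a, (MonoidAlgebra.single a (1 : R)) • (P a).map (cst R)

/-- The coefficient matrices. -/
def coef (M : Matrix (Fin m) (Fin m) (MonoidAlgebra R C)) (a : C) : Matrix (Fin m) (Fin m) R :=
  M.map fun w => w.coeff a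

theorem toMat_apply (P : C → Matrix (Fin m) (Fin m) R) (i j : Fin m) :
    toMat P i j = ∑ a, MonoidAlgebra.single a (P a i j) := by
  simp [toMat, Matrix.sum_apply, MonoidAlgebra.single_mul_single]

theorem coef_toMat (P : C → Matrix (Fin m) (Fin m) R) (a : C) : coef (toMat P) a = P a := by
  ext i j
  simp [coef, toMat_apply, MonoidAlgebra.coeff_sum, Finsupp.single_apply]

theorem toMat_coef (M : Matrix (Fin m) (Fin m) (MonoidAlgebra R C)) : toMat (coef M) = M := by
  ext i j : 1
  rw [toMat_apply]
  ext b
  simp [coef, MonoidAlgebra.coeff_sum, Finsupp.single_apply]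

theorem toMat_mul_toMat (P Q : C → Matrix (Fin m) (Fin m) R) :
    toMat P * toMat Q = ∑ a, ∑ b, (MonoidAlgebra.single (a * b) (1 : R)) • (P a * Q b).map (cst R) := by
  simp only [toMat, Finset.sum_mul, Finset.mul_sum, smul_mul_smul_comm, MonoidAlgebra.single_mul_single,
    mul_one, Matrix.map_mul]
  exact Finset.sum_comm

theorem toMat_inv_mul {P : C → Matrix (Fin m) (Fin m) R} (hP : IsSys P) :
    toMat (fun a => P a⁻¹) * toMat P = 1 := by
  rw [toMat_mul_toMat]
  simp only [hP.mul, apply_ite (fun X : Matrix (Fin m) (Fin m) R => X.map (cst (C := C) R)),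
    Matrix.map_zero _ (map_zero _), smul_ite, smul_zero]
  rw [← Equiv.sum_comp (Equiv.inv C)]
  simp only [Equiv.inv_apply, inv_inv, Finset.sum_ite_eq, Finset.mem_univ, if_true, inv_mul_cancel]
  rw [← Finset.smul_sum, MonoidAlgebra.one_def.symm, one_smul]
  exact (map_sum (cst (C := C) R).mapMatrix P Finset.univ).symm.trans (by rw [hP.sum, map_one])

theorem map_toMat {S : Type u} [CommRing S] (f : MonoidAlgebra R C →+* S) (P : C → Matrix (Fin m) (Fin m) R) :
    (toMat P).map f = ∑ a, f (MonoidAlgebra.single a 1) • (P a).map (f.comp (cst R)) := by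
  ext i j
  simp [toMat, Matrix.sum_apply, ← map_mul, MonoidAlgebra.single_mul_single]

/-- Multiplicativity on pairs gives orthogonal idempotents. -/
theorem isSys_of_map {P : C → Matrix (Fin m) (Fin m) R}
    (hd : (toMat P).map (MonoidAlgebra.mapDomainAlgHom R R (MonoidHom.prod (MonoidHom.id C) (MonoidHom.id C))) =
      (toMat P).map (MonoidAlgebra.mapDomainAlgHom R R (MonoidHom.inl C C)) *
        (toMat P).map (MonoidAlgebra.mapDomainAlgHom R R (MonoidHom.inr C C)))
    (h1 : (toMat P).map (MonoidAlgebra.lift R R C 1) = 1) : IsSys P := by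
  refine ⟨fun a b => ?_, ?_⟩
  · have h := congrArg (fun X : Matrix (Fin m) (Fin m) (MonoidAlgebra R (C × C)) => X.map fun w => w.coeff (a, b)) hd
    ext i j
    have h' := congrFun (congrFun h i) j
    simp only [Matrix.map_apply, Matrix.mul_apply, toMat_apply, map_sum, Finset.sum_mul, Finset.mul_sum,
      MonoidAlgebra.coeff_sum, Finsupp.finsetSum_apply] at h'
    simp [MonoidAlgebra.single_mul_single, Finsupp.single_apply, Prod.ext_iff] at h'
    rw [Matrix.mul_apply]
    by_cases hab : a = b
    · subst hab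
      simpa [ite_and] using h'.symm
    · simpa [ite_and, hab, Ne.symm hab] using h'.symm
  · ext i j
    have h := congrFun (congrFun h1 i) j
    simp [toMat_apply, map_sum] at h
    rw [Matrix.sum_apply]
    exact h

/-- The diagonal system of a labelling. -/
def diagC (R : Type u) [CommRing R] (c : Fin m → C) (a : C) : Matrix (Fin m) (Fin m) R :=
  Matrix.diagonal fun i => if c i = a then 1 else 0

theorem isSys_diagC (c : Fin m → C) : IsSys (diagC R c) := by
  refine ⟨fun a b => ?_, ?_⟩
  · rw [diagC, diagC, Matrix.diagonal_mul_diagonal]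
    split_ifs with h
    · subst h
      congr 1; funext i; by_cases hi : c i = a <;> simp [hi]
    · rw [← Matrix.diagonal_zero]
      congr 1; funext i
      by_cases hi : c i = a
      · simp [hi, h]
      · simp [hi]
  · ext i j
    rw [Matrix.sum_apply]
    by_cases hij : i = j
    · subst hij; simp [diagC]
    · simp [diagC, hij]

theorem diagC_map {S : Type u} [CommRing S] (f : R →+* S) (c : Fin m → C) (a : C) :
    (diagC R c a).map f = diagC S c a := by
  rw [diagC, diagC, Matrix.diagonal_map (map_zero f)]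
  congr 1; funext i; simp [apply_ite f]

section Field

variable {k : Type u} [Field k]

/-- Every system is diagonal in an adapted basis. -/
theorem exists_diag {P : C → Matrix (Fin m) (Fin m) k} (hP : IsSys P) :
    ∃ (c : Fin m → C) (G : GL (Fin m) k),
      ∀ a, (G : Matrix (Fin m) (Fin m) k) * P a = diagC k c a * (G : Matrix (Fin m) (Fin m) k) := by
  let W : C → Submodule k (Fin m → k) := fun a => LinearMap.range (P a).mulVecLin
  have hmem : ∀ a b (w : W b), P a *ᵥ (w : Fin m → k) = if a = b then (w : Fin m → k) else 0 := by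
    rintro a b ⟨-, v, rfl⟩
    simp only [Matrix.mulVecLin_apply, Matrix.mulVec_mulVec, hP.mul]
    split_ifs with h
    · rw [h]
    · exact Matrix.zero_mulVec v
  let e : ((a : C) → W a) ≃ₗ[k] (Fin m → k) :=
    { toFun := fun w => ∑ a, (w a : Fin m → k)
      map_add' := fun v w => by simp [Finset.sum_add_distrib]
      map_smul' := fun t w => by simp [Finset.smul_sum]
      invFun := fun v a => ⟨P a *ᵥ v, v, rfl⟩
      left_inv := fun w => by
        funext a
        refine Subtype.ext ?_
        show P a *ᵥ (∑ b, (w b : Fin m → k)) = w a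
        rw [Matrix.mulVec_sum]
        simp [hmem]
      right_inv := fun v => by
        show ∑ a, P a *ᵥ v = v
        rw [← Matrix.sum_mulVec, hP.sum, Matrix.one_mulVec] }
  let b₀ : Module.Basis ((a : C) × Fin (Module.finrank k (W a))) k (Fin m → k) :=
    (Pi.basis fun a => Module.finBasis k (W a)).map e
  let ι := b₀.indexEquiv (Pi.basisFun k (Fin m))
  let b := b₀.reindex ι
  let c : Fin m → C := fun i => (ι.symm i).1
  have hb : ∀ a i, P a *ᵥ b i = if c i = a then b i else 0 := by
    intro a i
    rw [show b i = b₀ (ι.symm i) from b₀.reindex_apply _ _]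
    show P a *ᵥ b₀ _ = if (ι.symm i).1 = a then _ else _
    generalize ι.symm i = x
    obtain ⟨a', t⟩ := x
    have : b₀ ⟨a', t⟩ = ((Module.finBasis k (W a') t : W a') : Fin m → k) := by
      show ∑ a, ((Pi.basis (fun a => Module.finBasis k (W a)) ⟨a', t⟩ a : W a) : Fin m → k) = _
      rw [Finset.sum_eq_single a' (fun a _ ha => by simp [Pi.basis_apply, ha]) (by simp)]
      simp [Pi.basis_apply]
    rw [this, hmem]
    simp [eq_comm]
  let Q : Matrix (Fin m) (Fin m) k := Matrix.of fun l i => b i l
  have hQ : IsUnit Q := by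
    rw [← Matrix.linearIndependent_cols_iff_isUnit]
    exact b.linearIndependent
  refine ⟨c, hQ.unit⁻¹, fun a => ?_⟩
  have h : P a * Q = Q * diagC k c a := by
    ext l i
    rw [diagC, Matrix.mul_diagonal, show (P a * Q) l i = (P a *ᵥ b i) l from rfl, hb]
    by_cases h : c i = a <;> simp [h, Q]
  calc ((hQ.unit⁻¹ : GL (Fin m) k) : Matrix (Fin m) (Fin m) k) * P a
      = ((hQ.unit⁻¹ : GL (Fin m) k) : Matrix (Fin m) (Fin m) k) * (P a * (Q * ((hQ.unit⁻¹ : GL (Fin m) k) : Matrix (Fin m) (Fin m) k))) := by
        rw [IsUnit.mul_val_inv hQ, mul_one]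
    _ = _ := by
        rw [← mul_assoc (P a), h, ← mul_assoc, ← mul_assoc, IsUnit.val_inv_mul hQ, one_mul]

variable {K : Type u} [Field K] [Algebra k K]

/-- Systems conjugate after an extension of the field are conjugate. -/
theorem exists_conj {P Q : C → Matrix (Fin m) (Fin m) k} (hP : IsSys P) (hQ : IsSys Q) (G : GL (Fin m) K)
    (h : ∀ a, (G : Matrix (Fin m) (Fin m) K) * (P a).map (algebraMap k K) = (Q a).map (algebraMap k K) * G) :
    ∃ g : GL (Fin m) k, ∀ a, (g : Matrix (Fin m) (Fin m) k) * P a = Q a * g := by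
  classical
  obtain ⟨c, A, hA⟩ := exists_diag hP
  obtain ⟨d, B, hB⟩ := exists_diag hQ
  have hcard : ∀ a, Fintype.card {i // c i = a} = Fintype.card {i // d i = a} := by
    intro a
    let f := algebraMap k K
    let A' : GL (Fin m) K := Matrix.GeneralLinearGroup.map f A
    let B' : GL (Fin m) K := Matrix.GeneralLinearGroup.map f B
    have hA' : (A' : Matrix (Fin m) (Fin m) K) * (P a).map f = diagC K c a * A' := by
      have := congrArg f.mapMatrix (hA a)
      rw [map_mul, map_mul] at this
      rw [← diagC_map f]; exact this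
    have hB' : (B' : Matrix (Fin m) (Fin m) K) * (Q a).map f = diagC K d a * B' := by
      have := congrArg f.mapMatrix (hB a)
      rw [map_mul, map_mul] at this
      rw [← diagC_map f]; exact this
    let T : GL (Fin m) K := B' * G * A'⁻¹
    have hT : (T : Matrix (Fin m) (Fin m) K) * diagC K c a = diagC K d a * T := by
      simp only [T, Units.val_mul]
      have e : ((A'⁻¹ : GL (Fin m) K) : Matrix (Fin m) (Fin m) K) * diagC K c a =
          (P a).map f * ((A'⁻¹ : GL (Fin m) K) : Matrix (Fin m) (Fin m) K) := by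
        rw [Units.inv_mul_eq_iff_eq_mul, ← mul_assoc, hA', mul_assoc, Units.mul_inv, mul_one]
      calc _ = ((B' : Matrix (Fin m) (Fin m) K) * G) * (((A'⁻¹ : GL (Fin m) K) : Matrix (Fin m) (Fin m) K) * diagC K c a) := mul_assoc _ _ _
        _ = (B' : Matrix (Fin m) (Fin m) K) * ((G : Matrix (Fin m) (Fin m) K) * (P a).map f) *
              ((A'⁻¹ : GL (Fin m) K) : Matrix (Fin m) (Fin m) K) := by rw [e]; simp only [mul_assoc]
        _ = (B' : Matrix (Fin m) (Fin m) K) * (Q a).map f * ((G : Matrix (Fin m) (Fin m) K) *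
              ((A'⁻¹ : GL (Fin m) K) : Matrix (Fin m) (Fin m) K)) := by rw [h]; simp only [mul_assoc, f]
        _ = _ := by rw [hB']; simp only [mul_assoc]
    have hr := congrArg Matrix.rank hT
    rw [Matrix.rank_mul_eq_right_of_isUnit_det _ _ ((Matrix.isUnit_iff_isUnit_det _).1 T.isUnit),
      Matrix.rank_mul_eq_left_of_isUnit_det _ _ ((Matrix.isUnit_iff_isUnit_det _).1 T.isUnit), diagC, diagC,
      Matrix.rank_diagonal, Matrix.rank_diagonal] at hr
    simpa [Fintype.card_subtype] using hr
  let σ : Fin m ≃ Fin m := Equiv.ofFiberEquiv fun a => Fintype.equivOfCardEq (hcard a)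
  have hσ : ∀ i, d (σ i) = c i := Equiv.ofFiberEquiv_map _
  let S : Matrix (Fin m) (Fin m) k := (σ.symm.toPEquiv).toMatrix
  have hS : IsUnit S := by
    rw [Matrix.isUnit_iff_isUnit_det]
    refine IsUnit.of_mul_eq_one (σ.toPEquiv.toMatrix : Matrix (Fin m) (Fin m) k).det ?_
    rw [← Matrix.det_mul, ← PEquiv.toMatrix_trans, ← Equiv.toPEquiv_trans, Equiv.symm_trans_self,
      Equiv.toPEquiv_refl, PEquiv.toMatrix_refl, Matrix.det_one]
  have hSd : ∀ a, S * diagC k c a = diagC k d a * S := by
    intro a
    ext i j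
    rw [diagC, diagC, Matrix.mul_diagonal, Matrix.diagonal_mul]
    by_cases hij : σ.symm i = j
    · subst hij
      have : c (σ.symm i) = d i := by rw [← hσ, Equiv.apply_symm_apply]
      rw [this]; ring
    · simp [S, PEquiv.toMatrix_apply, hij]
  refine ⟨B⁻¹ * hS.unit * A, fun a => ?_⟩
  simp only [Units.val_mul, IsUnit.unit_spec]
  have e : ((B⁻¹ : GL (Fin m) k) : Matrix (Fin m) (Fin m) k) * diagC k d a =
      Q a * ((B⁻¹ : GL (Fin m) k) : Matrix (Fin m) (Fin m) k) := by
    rw [Units.inv_mul_eq_iff_eq_mul, ← mul_assoc, hB, mul_assoc, Units.mul_inv, mul_one]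
  rw [mul_assoc, hA, ← mul_assoc, mul_assoc _ S, hSd, ← mul_assoc, e]
  simp only [mul_assoc]

end Field

end Groth.Agent.MuGLLib
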