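import Groth.Agent.MuGLLib.Pts
import Groth.Agent.TorusField.Bridge
import Groth.Agent.HopfFF.Linear

/-!
Rationality of subgroups `μ_n` of the general linear group.
-/

set_option autoImplicit false
set_option backward.isDefEq.respectTransparency false
set_option backward.isDefEq.respectTransparency.types false
set_option linter.unusedSectionVars false
set_option linter.style.haveILetI false
set_option maxHeartbeats 2000000
set_option synthInstance.maxHeartbeats 400000

universe u

open CategoryTheory CategoryTheory.Limits MonoidalCategory CartesianMonoidalCategory MonObj GrpObj AlgebraicGeometry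
open WithConv

noncomputable section

attribute [-instance] CategoryTheory.Hom.commGroup

namespace Groth.Agent.MuGLLib

variable {k : Type u} [Field k] {C : Type} [CommGroup C] [Fintype C] [DecidableEq C] {m : ℕ}

/-- The scheme of the group algebra. -/
abbrev WC (R : Type u) [CommRing R] (C : Type) [CommGroup C] : Over (Spec (CommRingCat.of R)) :=
  W R (MonoidAlgebra R C)

theorem conv_diag (R : Type u) [CommRing R] :
    toConv (MonoidAlgebra.mapDomainAlgHom R R (MonoidHom.inl C C)) *
        toConv (MonoidAlgebra.mapDomainAlgHom R R (MonoidHom.inr C C)) =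
      toConv (MonoidAlgebra.mapDomainAlgHom R R (MonoidHom.prod (MonoidHom.id C) (MonoidHom.id C))) := by
  apply WithConv.ofConv_injective
  apply MonoidAlgebra.algHom_ext
  · intro a
    simp [AlgHom.convMul_apply, MonoidAlgebra.comul_single, MonoidAlgebra.single_mul_single]
  · ext

theorem conv_one (R : Type u) [CommRing R] :
    (1 : WithConv (MonoidAlgebra R C →ₐ[R] R)) = toConv (MonoidAlgebra.lift R R C 1) := by
  apply WithConv.ofConv_injective
  apply MonoidAlgebra.algHom_ext
  · intro a
    show algebraMap R R (CoalgebraStruct.counit (R := R) (MonoidAlgebra.single a (1 : R))) = _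
    simp [MonoidAlgebra.counit_single]
  · ext

/-- The matrix of a subgroup over the base is a system. -/
theorem exists_sys (x : WC k C ⟶ GLsp k m) [IsMonHom x] :
    ∃ P : C → Matrix (Fin m) (Fin m) k, IsSys P ∧ mat x = toMat P := by
  refine ⟨coef (mat x), ?_, (toMat_coef _).symm⟩
  apply isSys_of_map <;> rw [toMat_coef]
  · rw [← mat_wmap, ← mat_wmap, ← mat_wmap, ← mat_mul, ← MonObj.mul_comp]
    congr 2
    have e := congrArg (Spec.mapMulEquiv (R := k)) (conv_diag (C := C) k)
    rw [map_mul] at e
    exact e.symm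
  · rw [← mat_wmap]
    have : wmap (MonoidAlgebra.lift k k C 1) = (1 : W k k ⟶ WC k C) := by
      show Spec.mapMulEquiv (R := k) (toConv (MonoidAlgebra.lift k k C 1)) = _
      rw [← conv_one k, map_one]
    rw [this, MonObj.one_comp, mat_one]

theorem mapDomain_inj {R : Type u} [CommRing R] [Nontrivial R] {D : Type} [CommGroup D] {φ φ' : C →* D}
    (h : wmap (MonoidAlgebra.mapDomainAlgHom R R φ) = (wmap (MonoidAlgebra.mapDomainAlgHom R R φ') : W R _ ⟶ WC R C)) :
    φ = φ' := by
  refine MonoidHom.ext fun a => ?_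
  have e := DFunLike.congr_fun (wmap_injective h) (MonoidAlgebra.single a 1)
  simp only [MonoidAlgebra.mapDomainAlgHom_apply, MonoidAlgebra.mapDomain_single] at e
  exact Finsupp.single_left_injective one_ne_zero (congrArg MonoidAlgebra.coeff e)

variable {K : Type u} [Field K] [Algebra k K]

/-- The matrix of a subgroup over an extension is a system. -/
theorem exists_sys' (x : WC K C ⟶ Red.bc (bmap k K) (GLsp k m)) [IsMonHom x] :
    ∃ P : C → Matrix (Fin m) (Fin m) K, IsSys P ∧ mat (resPt x) = toMat P := by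
  refine ⟨coef (mat (resPt x)), ?_, (toMat_coef _).symm⟩
  apply isSys_of_map <;> rw [toMat_coef]
  · have hd : wmap (MonoidAlgebra.mapDomainAlgHom K K (MonoidHom.prod (MonoidHom.id C) (MonoidHom.id C))) =
        wmap (MonoidAlgebra.mapDomainAlgHom K K (MonoidHom.inl C C)) *
          (wmap (MonoidAlgebra.mapDomainAlgHom K K (MonoidHom.inr C C)) : W K _ ⟶ WC K C) := by
      have e := congrArg (Spec.mapMulEquiv (R := K)) (conv_diag (C := C) K)
      rw [map_mul] at e
      exact e.symm
    have h := congrArg (fun z => mat (resPt (k := k) (z ≫ x))) hd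
    simp only [MonObj.mul_comp, map_mul, mat_mul, resPt_wmap, mat_wmap] at h
    exact h
  · have h1 : wmap (MonoidAlgebra.lift K K C 1) = (1 : W K K ⟶ WC K C) := by
      show Spec.mapMulEquiv (R := K) (toConv (MonoidAlgebra.lift K K C 1)) = _
      rw [← conv_one K, map_one]
    have h := congrArg (fun z => mat (resPt (k := k) (z ≫ x))) h1
    simp only [MonObj.one_comp, map_one, mat_one, resPt_wmap, mat_wmap] at h
    exact h

/-- The inclusion of coefficients. -/
def incl (k K : Type u) [Field k] [Field K] [Algebra k K] (C : Type) [CommGroup C] :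
    MonoidAlgebra k C →ₐ[k] MonoidAlgebra K C :=
  MonoidAlgebra.mapAlgHom C (Algebra.ofId k K)

theorem incl_single (a : C) (r : k) : incl k K C (MonoidAlgebra.single a r) = MonoidAlgebra.single a (algebraMap k K r) := by
  simp [incl]

theorem toMat_incl (P : C → Matrix (Fin m) (Fin m) k) :
    (toMat P).map (incl k K C) = toMat fun a => (P a).map (algebraMap k K) := by
  ext i j : 1
  simp [Matrix.map_apply, toMat_apply, map_sum, incl_single]

theorem isPullback_incl :
    IsPullback (Spec.map (CommRingCat.ofHom (incl k K C).toRingHom)) (WC K C).hom (WC k C).hom (bmap k K) := by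
  letI : Algebra (MonoidAlgebra k C) (MonoidAlgebra K C) := (incl k K C).toRingHom.toAlgebra
  haveI : IsScalarTower k (MonoidAlgebra k C) (MonoidAlgebra K C) :=
    IsScalarTower.of_algebraMap_eq' (incl k K C).comp_algebraMap.symm
  haveI : Algebra.IsPushout k K (MonoidAlgebra k C) (MonoidAlgebra K C) := by
    constructor
    have : IsBaseChange K ((IsScalarTower.toAlgHom k (MonoidAlgebra k C) (MonoidAlgebra K C)).toLinearMap) := by
      refine IsBaseChange.of_equiv (MonoidAlgebra.scalarTensorEquiv k K).toLinearEquiv fun x => ?_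
      induction x using MonoidAlgebra.induction_linear with
      | zero => simp
      | add a b ha hb => rw [TensorProduct.tmul_add, map_add, map_add, ha, hb]
      | single a r =>
        show MonoidAlgebra.scalarTensorEquiv k K _ = incl k K C _
        rw [MonoidAlgebra.scalarTensorEquiv_tmul, one_smul]
        rfl
    exact this
  exact (isPullback_SpecMap_of_isPushout _ _ _ _
    (CommRingCat.isPushout_of_isPushout k K (MonoidAlgebra k C) (MonoidAlgebra K C)).flip)

/-- The group algebra over the extension is the base change. -/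
def bcIso (k K : Type u) [Field k] [Field K] [Algebra k K] (C : Type) [CommGroup C] [Fintype C] [DecidableEq C] :
    WC K C ≅ Red.bc (bmap k K) (WC k C) :=
  Over.isoMk (isPullback_incl (k := k) (K := K) (C := C)).isoPullback
    (IsPullback.isoPullback_hom_snd _)

theorem resPt_bcIso (x : WC k C ⟶ GLsp k m) :
    resPt ((bcIso k K C).hom ≫ (Over.pullback (bmap k K)).map x) = wmap (incl k K C) ≫ x := by
  refine Over.OverMorphism.ext ?_
  rw [resPt_left]
  show ((bcIso k K C).hom.left ≫ ((Over.pullback (bmap k K)).map x).left) ≫ pullback.fst _ _ = _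
  rw [Category.assoc]
  have e : ((Over.pullback (bmap k K)).map x).left ≫ pullback.fst _ _ = pullback.fst _ _ ≫ x.left := by
    simp [Over.pullback]
  rw [e, ← Category.assoc]
  congr 1
  exact (isPullback_incl (k := k) (K := K) (C := C)).isoPullback_hom_fst

theorem comp_conjBy {S : Scheme.{u}} {G H H' : Over S} [GrpObj G] (u : H' ⟶ H) (g : 𝟙_ (Over S) ⟶ G) (i : H ⟶ G) :
    u ≫ AGF.conjBy g i = AGF.conjBy g (u ≫ i) := by
  unfold AGF.conjBy
  rw [MonObj.comp_mul, MonObj.comp_mul, GrpObj.comp_inv, ← Category.assoc, toUnit_unique (u ≫ toUnit H) (toUnit H')]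

section

variable {σ τ : Over (Spec (CommRingCat.of k))}

/-- The first rationality statement. -/
theorem exists_conjBy (i : σ ⟶ GLsp k m) (j : τ ⟶ GLsp k m) (eσ : WC k C ≅ σ) (eτ : WC k C ≅ τ)
    [IsMonHom (eσ.hom ≫ i)] [IsMonHom (eτ.hom ≫ j)] (hj : IsClosedImmersion (eτ.hom ≫ j).left)
    (g : 𝟙_ (Over (Spec (CommRingCat.of K))) ⟶ Red.bc (bmap k K) (GLsp k m))
    (φ : Red.bc (bmap k K) σ ≅ Red.bc (bmap k K) τ)
    (h : AGF.conjBy g ((Over.pullback (bmap k K)).map i) = φ.hom ≫ (Over.pullback (bmap k K)).map j) :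
    ∃ (g : 𝟙_ (Over (Spec (CommRingCat.of k))) ⟶ GLsp k m) (φ : σ ≅ τ), AGF.conjBy g i = φ.hom ≫ j := by
  obtain ⟨P, hP, hmP⟩ := exists_sys (eσ.hom ≫ i)
  obtain ⟨Q, hQ, hmQ⟩ := exists_sys (eτ.hom ≫ j)
  let f := bmap k K
  let bσ := bcIso k K C ≪≫ (Over.pullback f).mapIso eσ
  let bτ := bcIso k K C ≪≫ (Over.pullback f).mapIso eτ
  obtain ⟨α, hα⟩ := exists_algEquiv (bσ ≪≫ φ ≪≫ bτ.symm)
  have h' : AGF.conjBy g (bσ.hom ≫ (Over.pullback f).map i) = wmap (α : _ →ₐ[K] _) ≫ bτ.hom ≫ (Over.pullback f).map j := by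
    rw [← comp_conjBy, h, hα]
    simp [bσ, bτ, f]
  let P' : C → Matrix (Fin m) (Fin m) K := fun a => (P a).map (algebraMap k K)
  let Q' : C → Matrix (Fin m) (Fin m) K := fun a => (Q a).map (algebraMap k K)
  have hsysmap : ∀ {P : C → Matrix (Fin m) (Fin m) k}, IsSys P → IsSys fun a => (P a).map (algebraMap k K) := fun {P} hP => by
    refine ⟨fun a b => ?_, ?_⟩
    · rw [← Matrix.map_mul, hP.mul]
      split_ifs <;> simp
    · have := congrArg (algebraMap k K).mapMatrix hP.sum
      rw [map_sum, map_one] at this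
      exact this
  have hσm : mat (resPt (bσ.hom ≫ (Over.pullback f).map i)) = toMat P' := by
    have e : bσ.hom ≫ (Over.pullback f).map i = (bcIso k K C).hom ≫ (Over.pullback f).map (eσ.hom ≫ i) := by
      simp [bσ]
    rw [e, resPt_bcIso, mat_wmap, hmP, toMat_incl]
  have hτm : mat (resPt (bτ.hom ≫ (Over.pullback f).map j)) = toMat Q' := by
    have e : bτ.hom ≫ (Over.pullback f).map j = (bcIso k K C).hom ≫ (Over.pullback f).map (eτ.hom ≫ j) := by
      simp [bτ]
    rw [e, resPt_bcIso, mat_wmap, hmQ, toMat_incl]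
  obtain ⟨G, hG, hG'⟩ := exists_gl (resPt (k := k) ((unitIso K).inv ≫ g))
  have hh : (G : Matrix (Fin m) (Fin m) K).map (cst K) * toMat P' *
      ((G⁻¹ : GL (Fin m) K) : Matrix (Fin m) (Fin m) K).map (cst K) = (toMat Q').map α := by
    have e := congrArg (fun z => mat (resPt (k := k) z)) h'
    simp only [AGF.conjBy, map_mul, mat_mul, resPt_wmap, mat_wmap, hσm, hτm] at e
    rw [← GrpObj.comp_inv, mat_resPt_toUnit, mat_resPt_toUnit] at e
    rw [hG, hG', ← map_inv, ← GrpObj.comp_inv]
    exact e
  have hlab : labels Q' = ⊤ := by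
    refine le_antisymm le_top ?_
    haveI : IsClosedImmersion (eτ.hom ≫ j).left := hj
    haveI : Mono (eτ.hom ≫ j) := (Over.forget _).mono_of_mono_map (inferInstanceAs (Mono (eτ.hom ≫ j).left))
    rw [← labels_eq_top (P := Q) fun D _ ψ χ e => mapDomain_inj ((cancel_mono (eτ.hom ≫ j)).1 (mat_injective (by
      rw [mat_wmap, mat_wmap, hmQ]
      exact e)))]
    exact labels_mono fun a ha h0 => ha (Matrix.map_injective (algebraMap k K).injective
      (h0.trans (Matrix.map_zero _ (map_zero _)).symm))
  obtain ⟨π, hπ⟩ := exists_perm (hsysmap hP) (hsysmap hQ) hlab G α hh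
  have hPπ : IsSys fun b => P (π b) := ⟨fun a b => by rw [hP.mul]; simp [π.injective.eq_iff],
    (π.toEquiv.sum_comp P).trans hP.sum⟩
  obtain ⟨g₀, hg₀⟩ := exists_conj hPπ hQ G hπ
  let gpt : 𝟙_ (Over (Spec (CommRingCat.of k))) ⟶ GLsp k m := (unitIso k).hom ≫ matPt (g₀ : Matrix _ _ k) _
    (by rw [← Matrix.det_mul, Units.mul_inv g₀, Matrix.det_one] : (g₀ : Matrix (Fin m) (Fin m) k).det * ((g₀⁻¹ : GL (Fin m) k) : Matrix (Fin m) (Fin m) k).det = 1)
  let β : MonoidAlgebra k C ≃ₐ[k] MonoidAlgebra k C := MonoidAlgebra.domCongr k k π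
  let sw : WC k C ≅ WC k C :=
    ⟨wmap (β : _ →ₐ[k] _), wmap (β.symm : _ →ₐ[k] _),
      by rw [wmap_comp, ← wmap_id (R := k)]; exact congrArg wmap (AlgHom.ext β.apply_symm_apply),
      by rw [wmap_comp, ← wmap_id (R := k)]; exact congrArg wmap (AlgHom.ext β.symm_apply_apply)⟩
  refine ⟨gpt, eσ.symm ≪≫ sw ≪≫ eτ, ?_⟩
  have key : AGF.conjBy gpt (eσ.hom ≫ i) = sw.hom ≫ eτ.hom ≫ j := by
    apply mat_injective
    obtain ⟨G₀, hG₀, hG₀'⟩ := exists_gl ((unitIso k).inv ≫ gpt)
    have hG0 : G₀ = g₀ := Units.ext (by rw [hG₀]; simp [gpt, mat_matPt])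
    subst hG0
    simp only [AGF.conjBy, mat_mul, mat_wmap, hmP, hmQ, sw]
    rw [← GrpObj.comp_inv, mat_toUnit, mat_toUnit, GrpObj.comp_inv, ← hG₀, ← hG₀']
    have : (toMat Q).map (β : MonoidAlgebra k C →ₐ[k] MonoidAlgebra k C) = toMat fun a => Q (π.symm a) := by
      ext a b : 1
      simp [toMat_apply, map_sum, β]
      exact (π.toEquiv.sum_comp fun x => MonoidAlgebra.single x (Q (π.symm x) a b)).symm.trans (by simp) |>.symm
    rw [this]
    simp only [toMat, Finset.mul_sum, Finset.sum_mul, Matrix.mul_smul, Matrix.smul_mul]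
    refine Finset.sum_congr rfl fun a _ => ?_
    rw [← Matrix.map_mul, ← Matrix.map_mul]
    have e2 := hg₀ (π.symm a)
    rw [MulEquiv.apply_symm_apply] at e2
    rw [e2, _root_.mul_assoc, Units.mul_inv, _root_.mul_one]
  rw [← cancel_epi eσ.hom, comp_conjBy, key]
  simp

end

/-- The second rationality statement. -/
theorem exists_descent {σ' : Over (Spec (CommRingCat.of K))} (i' : σ' ⟶ Red.bc (bmap k K) (GLsp k m))
    (e' : WC K C ≅ σ') [IsMonHom (e'.hom ≫ i')] (hi' : IsClosedImmersion (e'.hom ≫ i').left) :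
    ∃ (i : WC k C ⟶ GLsp k m) (_ : IsMonHom i), IsClosedImmersion i.left ∧
      ∃ (g : 𝟙_ (Over (Spec (CommRingCat.of K))) ⟶ Red.bc (bmap k K) (GLsp k m))
        (φ : σ' ≅ Red.bc (bmap k K) (WC k C)),
        AGF.conjBy g i' = φ.hom ≫ (Over.pullback (bmap k K)).map i := by
  obtain ⟨P, hP, hmP⟩ := exists_sys' (e'.hom ≫ i')
  obtain ⟨c, G, hG⟩ := exists_diag hP
  let M : Matrix (Fin m) (Fin m) (MonoidAlgebra k C) := toMat (diagC k c)
  have hM : M = Matrix.diagonal fun i => MonoidAlgebra.single (c i) 1 := by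
    ext i j : 1
    show toMat (diagC k c) i j = _
    rw [toMat_apply]
    by_cases hij : i = j
    · subst hij
      simp [diagC, apply_ite (MonoidAlgebra.single _)]
    · simp [diagC, hij]
  have hd : M.det * (toMat fun a => diagC k c a⁻¹).det = 1 := by
    rw [mul_comm, ← Matrix.det_mul, toMat_inv_mul (isSys_diagC c), Matrix.det_one]
  obtain ⟨π, hπ⟩ := HopfFF.exists_bialgHom_GLn (k := k) M _ hd
    (fun a b => by
      rw [hM, Matrix.diagonal_apply]
      by_cases hab : a = b
      · subst hab
        simp [Matrix.diagonal_apply]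
        rw [Finset.sum_eq_single a (fun l _ hl => by simp [hl]) (by simp)]
        simp
      · rw [if_neg hab]
        rw [Finset.sum_eq_zero fun l _ => ?_]
        · exact map_zero _
        · by_cases hal : a = l
          · subst hal; simp [Matrix.diagonal_apply, hab]
          · simp [Matrix.diagonal_apply, hal])
    (fun a b => by
      rw [hM, Matrix.diagonal_apply]
      by_cases hab : a = b
      · subst hab; simp
      · rw [if_neg hab, if_neg hab]; exact map_zero _)
  let I := TorusField.specHom π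
  let i : WC k C ⟶ GLsp k m := I.hom.hom
  haveI : IsMonHom i := I.hom.isMonHom_hom
  have hmi : mat i = M := by
    have : i = Spec.mapMulEquiv (R := k) (toConv (π : CoordGrp.GLn m k →ₐ[k] MonoidAlgebra k C)) :=
      Over.OverMorphism.ext rfl
    rw [this]
    ext a b : 1
    rw [mat, ptAlg_spec]
    exact hπ a b
  have hsurj : Function.Surjective π := by
    have htop : labels P = ⊤ := by
      haveI : IsClosedImmersion (e'.hom ≫ i').left := hi'
      haveI : Mono (e'.hom ≫ i') := (Over.forget _).mono_of_mono_map (inferInstanceAs (Mono (e'.hom ≫ i').left))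
      refine labels_eq_top fun D _ ψ χ e => mapDomain_inj ((cancel_mono (e'.hom ≫ i')).1
        ((resPt (k := k)).injective (mat_injective ?_)))
      rw [resPt_wmap, resPt_wmap, mat_wmap, mat_wmap, hmP]
      exact e
    have hcl : Submonoid.closure (Set.range c) = ⊤ := by
      rw [eq_top_iff, ← htop]
      refine Submonoid.closure_le.2 fun a ha => Submonoid.subset_closure ?_
      by_contra hno
      apply ha
      have h0 : diagC K c a = 0 := by
        rw [diagC, ← Matrix.diagonal_zero]
        congr 1; funext l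
        exact if_neg fun e => hno ⟨l, e⟩
      have := hG a
      rw [h0, zero_mul] at this
      calc P a = ((G⁻¹ : GL (Fin m) K) : Matrix _ _ K) * ((G : Matrix _ _ K) * P a) := (Units.inv_mul_cancel_left G _).symm
        _ = 0 := by rw [this, mul_zero]
    have hall : ∀ a, MonoidAlgebra.single a (1 : k) ∈ (π : CoordGrp.GLn m k →ₐ[k] MonoidAlgebra k C).range := fun a => by
      have : a ∈ Submonoid.closure (Set.range c) := hcl ▸ Submonoid.mem_top a
      induction this using Submonoid.closure_induction with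
      | mem x hx =>
        obtain ⟨l, rfl⟩ := hx
        exact ⟨CoordGrp.GLn.X l l, (hπ l l).trans (by rw [hM, Matrix.diagonal_apply_eq])⟩
      | one => rw [← MonoidAlgebra.one_def]; exact one_mem _
      | mul x y _ _ hx hy =>
        have := mul_mem hx hy
        rwa [MonoidAlgebra.single_mul_single, _root_.one_mul] at this
    intro w
    have : w ∈ (π : CoordGrp.GLn m k →ₐ[k] MonoidAlgebra k C).range := by
      induction w using MonoidAlgebra.induction_linear with
      | zero => exact zero_mem _
      | add a b ha hb => exact add_mem ha hb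
      | single a r =>
        have := Subalgebra.smul_mem _ (hall a) r
        rwa [MonoidAlgebra.smul_single, smul_eq_mul, _root_.mul_one] at this
    exact this
  refine ⟨i, inferInstance, IsClosedImmersion.spec_of_surjective _ hsurj,
    (unitIso K).hom ≫ resPt.symm (matPt (R := k) (A := K) (G : Matrix (Fin m) (Fin m) K) _
      (by rw [← Matrix.det_mul, Units.mul_inv G, Matrix.det_one] : (G : Matrix (Fin m) (Fin m) K).det * ((G⁻¹ : GL (Fin m) K) : Matrix (Fin m) (Fin m) K).det = 1)),
    e'.symm ≪≫ bcIso k K C, ?_⟩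
  rw [← cancel_epi e'.hom, comp_conjBy]
  simp only [Iso.trans_hom, Iso.symm_hom, Category.assoc, Iso.hom_inv_id_assoc]
  apply (resPt (k := k)).injective
  rw [resPt_bcIso]
  apply mat_injective
  obtain ⟨G₁, hG₁, hG₁'⟩ := exists_gl (matPt (R := k) (A := K) (G : Matrix (Fin m) (Fin m) K) _
      (by rw [← Matrix.det_mul, Units.mul_inv G, Matrix.det_one] : (G : Matrix (Fin m) (Fin m) K).det * ((G⁻¹ : GL (Fin m) K) : Matrix (Fin m) (Fin m) K).det = 1))
  have hG1 : G₁ = G := Units.ext (by rw [hG₁, mat_matPt])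
  subst hG1
  rw [mat_wmap, hmi, toMat_incl]
  simp only [AGF.conjBy, map_mul, mat_mul, hmP]
  rw [← GrpObj.comp_inv, mat_resPt_toUnit, mat_resPt_toUnit, GrpObj.comp_inv, map_inv, Iso.inv_hom_id_assoc,
    MulEquiv.apply_symm_apply, ← hG₁, ← hG₁']
  simp only [toMat, Finset.mul_sum, Finset.sum_mul, Matrix.mul_smul, Matrix.smul_mul, diagC_map]
  refine Finset.sum_congr rfl fun a _ => ?_
  rw [← Matrix.map_mul, ← Matrix.map_mul, hG, _root_.mul_assoc, Units.mul_inv, _root_.mul_one, diagC_map]

end Groth.Agent.MuGLLib
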