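import Groth.Agent.MuGLLib.Alg

/-!
The labels occurring in a closed subgroup, and automorphisms of the group algebra permuting them.
-/

set_option autoImplicit false
set_option linter.unusedSectionVars false

universe u

noncomputable section

namespace Groth.Agent.MuGLLib

open Matrix

variable {C : Type} [CommGroup C] [Fintype C] [DecidableEq C] {m : ℕ} {k : Type u} [Field k]

/-- The submonoid of labels of the non-zero pieces. -/
def labels {R : Type u} [CommRing R] (P : C → Matrix (Fin m) (Fin m) R) : Submonoid C :=
  Submonoid.closure {a | P a ≠ 0}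

theorem inv_mem_submonoid (T : Submonoid C) {a : C} (h : a ∈ T) : a⁻¹ ∈ T := by
  have e : a⁻¹ = a ^ (orderOf a - 1) := by
    refine (eq_inv_of_mul_eq_one_left ?_).symm
    rw [← pow_succ, Nat.sub_add_cancel (orderOf_pos a), pow_orderOf_eq_one]
  rw [e]
  exact pow_mem h _

variable {K : Type u} [Field K] [Algebra k K]

/-- If equal images of the matrix force equal maps, every element is a label. -/
theorem labels_eq_top {R : Type u} [CommRing R] [Nontrivial R] {P : C → Matrix (Fin m) (Fin m) R}
    (h : ∀ (D : Type) [CommGroup D] (φ φ' : C →* D),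
      (toMat P).map (MonoidAlgebra.mapDomainAlgHom R R φ) = (toMat P).map (MonoidAlgebra.mapDomainAlgHom R R φ') →
        φ = φ') : labels P = ⊤ := by
  let T : Subgroup C := { labels P with inv_mem' := fun ha => inv_mem_submonoid (labels P) ha }
  have e := h (C ⧸ T) (QuotientGroup.mk' T) 1 (by
    ext i j : 1
    simp only [Matrix.map_apply, toMat_apply, map_sum]
    refine Finset.sum_congr rfl fun a _ => ?_
    by_cases ha : P a = 0
    · simp [ha]
    · have : QuotientGroup.mk' T a = 1 := (QuotientGroup.eq_one_iff a).2 (Submonoid.subset_closure ha)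
      simp only [MonoidAlgebra.mapDomainAlgHom_apply, MonoidAlgebra.mapDomain_single, this, MonoidHom.one_apply])
  rw [eq_top_iff]
  intro a _
  exact (QuotientGroup.eq_one_iff (N := T) a).1 (DFunLike.congr_fun e a)

theorem labels_mono {R S : Type u} [CommRing R] [CommRing S] {P : C → Matrix (Fin m) (Fin m) R}
    {Q : C → Matrix (Fin m) (Fin m) S} (h : ∀ a, P a ≠ 0 → Q a ≠ 0) : labels P ≤ labels Q :=
  Submonoid.closure_mono h

/-- An automorphism of the group algebra carrying a full system to a conjugate of a system permutes the labels. -/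
theorem exists_perm {P Q : C → Matrix (Fin m) (Fin m) K} (hP : IsSys P) (hQ : IsSys Q) (hlab : labels Q = ⊤)
    (G : GL (Fin m) K) (α : MonoidAlgebra K C ≃ₐ[K] MonoidAlgebra K C)
    (h : (G : Matrix (Fin m) (Fin m) K).map (cst K) * toMat P *
      ((G⁻¹ : GL (Fin m) K) : Matrix (Fin m) (Fin m) K).map (cst K) = (toMat Q).map α) :
    ∃ π : C ≃* C, ∀ b, (G : Matrix (Fin m) (Fin m) K) * P (π b) = Q b * G := by
  let P' : C → Matrix (Fin m) (Fin m) K := fun a => (G : Matrix (Fin m) (Fin m) K) * P a * ((G⁻¹ : GL (Fin m) K) : Matrix _ _ K)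
  have hP' : IsSys P' := by
    refine ⟨fun a b => ?_, ?_⟩
    · have e : P' a * P' b = (G : Matrix (Fin m) (Fin m) K) * (P a * P b) * ((G⁻¹ : GL (Fin m) K) : Matrix _ _ K) := by
        simp only [P', mul_assoc, Units.inv_mul_cancel_left]
      rw [e, hP.mul]
      split_ifs <;> simp [P']
    · simp only [P', ← Finset.sum_mul, ← Finset.mul_sum, hP.sum, mul_one, Units.mul_inv]
  let c : C → C → K := fun a b => (α (MonoidAlgebra.single b 1)).coeff a
  have hc : ∀ a, P' a = ∑ b, c a b • Q b := fun a => by
    have e := congrArg (fun X => coef X a) h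
    have e1 : coef ((G : Matrix (Fin m) (Fin m) K).map (cst K) * toMat P *
        ((G⁻¹ : GL (Fin m) K) : Matrix (Fin m) (Fin m) K).map (cst K)) a = P' a := by
      have : (G : Matrix (Fin m) (Fin m) K).map (cst K) * toMat P *
          ((G⁻¹ : GL (Fin m) K) : Matrix (Fin m) (Fin m) K).map (cst K) = toMat P' := by
        simp only [toMat, P', Matrix.map_mul, Finset.sum_mul, Finset.mul_sum, Matrix.mul_smul, Matrix.smul_mul, cst]
      rw [this, coef_toMat]
    rw [e1] at e
    rw [e]
    ext i j
    simp only [coef, Matrix.map_apply, Matrix.sum_apply, Matrix.smul_apply, toMat_apply, map_sum,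
      MonoidAlgebra.coeff_sum, Finsupp.finsetSum_apply, smul_eq_mul]
    refine Finset.sum_congr rfl fun b _ => ?_
    rw [show MonoidAlgebra.single b (Q b i j) = Q b i j • MonoidAlgebra.single b (1 : K) by
      rw [MonoidAlgebra.smul_single, smul_eq_mul, mul_one], map_smul, MonoidAlgebra.coeff_smul, Finsupp.smul_apply,
      smul_eq_mul, mul_comm]
  have hcQ : ∀ a b, P' a * Q b = c a b • Q b := fun a b => by
    rw [hc, Finset.sum_mul]
    simp [Matrix.smul_mul, hQ.mul]
  have hone : ∀ b, Q b ≠ 0 → ∃ a, α (MonoidAlgebra.single b 1) = MonoidAlgebra.single a 1 := by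
    intro b hb
    have hsum : ∑ a, c a b = 1 := by
      have e : ∑ a, P' a * Q b = Q b := by rw [← Finset.sum_mul, hP'.sum, one_mul]
      simp only [hcQ, ← Finset.sum_smul] at e
      exact smul_left_injective K hb (e.trans (one_smul K _).symm)
    obtain ⟨a, ha⟩ : ∃ a, c a b ≠ 0 := by
      by_contra hno
      simp only [not_exists, not_not] at hno
      simp [hno] at hsum
    have horth : ∀ a', a' ≠ a → c a' b = 0 := fun a' ha' => by
      have e : P' a' * (P' a * Q b) = 0 := by rw [← mul_assoc, hP'.mul, if_neg ha', zero_mul]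
      rw [hcQ, Matrix.mul_smul, hcQ, smul_smul] at e
      exact (mul_eq_zero.1 ((smul_eq_zero.1 e).resolve_right hb)).resolve_left ha
    refine ⟨a, ?_⟩
    ext a'
    rw [MonoidAlgebra.coeff_single, Finsupp.single_apply]
    split_ifs with e
    · subst e
      exact (Finset.sum_eq_single (f := fun x => c x b) a (fun a' _ h => horth a' h)
        (fun h => absurd (Finset.mem_univ a) h)).symm.trans hsum
    · exact horth a' (Ne.symm e)
  let T : Submonoid C :=
    { carrier := {b | ∃ a, α (MonoidAlgebra.single b 1) = MonoidAlgebra.single a 1}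
      one_mem' := ⟨1, by rw [← MonoidAlgebra.one_def, map_one]⟩
      mul_mem' := fun {b b'} ⟨a, ha⟩ ⟨a', ha'⟩ => ⟨a * a', by
        calc α (MonoidAlgebra.single (b * b') 1)
            = α (MonoidAlgebra.single b 1 * MonoidAlgebra.single b' 1) := by
              rw [MonoidAlgebra.single_mul_single, one_mul]
          _ = _ := by rw [map_mul, ha, ha', MonoidAlgebra.single_mul_single, one_mul]⟩ }
  have hT : ∀ b, b ∈ T := fun b => by
    have : labels Q ≤ T := Submonoid.closure_le.2 hone
    exact this (hlab ▸ Submonoid.mem_top b)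
  choose π hπ using hT
  have hinj : ∀ a a' : C, MonoidAlgebra.single a (1 : K) = MonoidAlgebra.single a' 1 → a = a' := fun a a' e => by
    have := congrArg (fun w => MonoidAlgebra.coeff w a) e
    simpa [Finsupp.single_apply, eq_comm] using this
  let πh : C →* C :=
    { toFun := π
      map_one' := hinj _ _ (by rw [← hπ, ← MonoidAlgebra.one_def, map_one])
      map_mul' := fun b b' => hinj _ _ (by
        rw [← hπ]
        calc α (MonoidAlgebra.single (b * b') 1)
            = α (MonoidAlgebra.single b 1 * MonoidAlgebra.single b' 1) := by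
              rw [MonoidAlgebra.single_mul_single, one_mul]
          _ = _ := by rw [map_mul, hπ, hπ, MonoidAlgebra.single_mul_single, one_mul]) }
  have hπinj : Function.Injective πh := fun b b' e => hinj _ _ (α.injective (by
    rw [hπ, hπ]; exact congrArg (fun z => MonoidAlgebra.single z (1 : K)) e))
  refine ⟨MulEquiv.ofBijective πh ⟨hπinj, Finite.surjective_of_injective hπinj⟩, fun b => ?_⟩
  have e : P' (π b) = Q b := by
    rw [hc, Finset.sum_eq_single b (fun b' _ hb' => ?_) (by simp)]
    · simp [c, hπ]
    · have : π b' ≠ π b := fun e => hb' (hπinj e)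
      simp [c, hπ, Finsupp.single_apply, this]
  show (G : Matrix (Fin m) (Fin m) K) * P (π b) = Q b * G
  rw [← e]
  simp only [P', mul_assoc, Units.inv_mul, mul_one]

end Groth.Agent.MuGLLib
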